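import Cfsg.Agent.Odc.D4

/-! Odd operator groups on dihedral configurations -/

set_option autoImplicit false

namespace CF.Ncp
open Subgroup CF.BG CF.Odc CF.Odc.Dd
open scoped commutatorElement

universe u
variable {Γ : Type u} [Group Γ] {T : Subgroup Γ} {z x y w b d r s t : Γ} {C D E : Set Γ}

/-- commuting is transitive along classes belonging to the same `z` -/
theorem dh_tr (h : Fc T z C) (k : Fc T z D) (l : Fc T z E) (hx : x ∈ C) (hy : y ∈ D) (hw : w ∈ E)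
    (e : x * y = y * x) (f : y * w = w * y) : x * w = w * x := by
  have iw := inv_sq (l.aa w hw)
  have q : x * (w * x * w⁻¹) = x * w * (x * w) := by rw [iw]; group
  have c1 : Commute (x * w) y := Commute.mul_left e f.symm
  have c2 : Commute (x * w) z := Commute.mul_left (h.az x hx) (l.az w hw)
  have m := T.mul_mem (h.sub x hx) (l.sub w hw)
  refine comm_sq (h.aa x hx) (l.aa w hw) ?_
  rcases h.dich hx (h.cl w (l.sub w hw) (l.az w hw) x hx) with h1 | h1 | ⟨n, h1⟩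
  · rwa [q] at h1
  · exact absurd (q ▸ h1) (k.ns y hy _ m c2 c1)
  · rw [q] at h1
    exact absurd h1 (k.ns y hy _ (T.pow_mem (T.mul_mem m m) n) ((c2.mul_left c2).pow_left n)
      ((c1.mul_left c1).pow_left n))

theorem dh_rel (h : Fc T z C) (hx : x ∈ C) (hb : b ∈ C) (yT : y ∈ T) (yz : y * z = z * y)
    (yy : y * y = 1) (e : x * b * (x * b) = x * y * (x * y)) : y * b = b * y := by
  have ib := inv_sq (h.aa b hb)
  have iy := inv_sq yy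
  have e1 : b * x * b = y * x * y := by
    rw [mul_assoc, mul_assoc x y, mul_right_inj] at e
    rw [mul_assoc, e, mul_assoc]
  have c : Commute (y * b) x := by
    calc y * b * x = y * (b * x * b) * b⁻¹ := by group
      _ = y * y * x * (y * b) := by rw [e1, ib]; group
      _ = x * (y * b) := by rw [yy, one_mul]
  have q : y * b * y⁻¹ * b = y * b * (y * b) := by rw [iy]; group
  refine comm_sq yy (h.aa b hb) ?_
  rcases h.of_cent hx (h.cl y yT yz b hb) hb (q ▸ c.mul_left c) with h1 | h1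
  · rwa [q] at h1
  · exact absurd (q ▸ h1) (h.ns x hx _ (T.mul_mem yT (h.sub b hb))
      (Commute.mul_left yz (h.az b hb)) c)

theorem dh_chain (h : Fc T z C) (hx : x ∈ C) (k : ℕ) : ∀ b ∈ C, ∀ d ∈ C, (x * b) ^ 2 ^ k = 1 →
    (∃ m : ℕ, x * b = (x * d) ^ m) ∨ ∃ m : ℕ, x * d = (x * b) ^ m := by
  have xx := h.aa x hx
  have xp : ∀ v, x * (x * v) = v := fun v => by rw [← mul_assoc, xx, one_mul]
  have key : ∀ b ∈ C, ∀ d ∈ C, ∀ m : ℕ, (x * b) ^ 2 = ((x * d) ^ 2) ^ m →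
      (∃ m : ℕ, x * b = (x * d) ^ m) ∨ ∃ m : ℕ, x * d = (x * b) ^ m := by
    intro b hb d hd m e
    have hc := pow_cl h.aa h.cl' hx hd m
    rw [← pow_mul, mul_comm, pow_mul, sq, sq] at e
    have i1 := inv_l xx (h.aa b hb) 1
    have i2 := inv_l xx (h.aa d hd) m
    rw [pow_one] at i1
    have e0 : b * (x * (x * d) ^ m) = (x * b)⁻¹ * (x * d) ^ m := by
      rw [mul_inv_rev, inv_sq xx, inv_sq (h.aa b hb), mul_assoc]
    have e1 : (x * b)⁻¹ * (x * d) ^ m * x = x * ((x * b)⁻¹ * (x * d) ^ m) := by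
      generalize (x * d) ^ m = τ at *
      generalize x * b = σ at *
      refine (mul_inv_eq_iff_eq_mul.1 ?_).symm
      calc x * (σ⁻¹ * τ) * x⁻¹ = (x * σ * x⁻¹)⁻¹ * (x * τ * x⁻¹) := by group
        _ = σ⁻¹ * (σ * σ) * τ⁻¹ := by rw [i1, i2]; group
        _ = σ⁻¹ * τ := by rw [e]; group
    rcases h.of_cent hx hb hc (by rw [e0, e1]) with h1 | h1
    · rw [e0, inv_mul_eq_one] at h1; exact .inl ⟨m, h1⟩
    rw [e0, inv_mul_eq_iff_eq_mul, ← mul_inv_eq_iff_eq_mul, inv_sq h.zz] at h1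
    rcases h.dich hx hd with h2 | h2 | ⟨n, h2⟩
    · exact .inr ⟨0, by rw [h2, pow_zero]⟩
    · exact .inl ⟨m + 1, by rw [pow_succ, ← h1, h2]⟩
    · exact .inl ⟨m + (n + n), by rw [pow_add, pow_add, ← h1, h2]⟩
  induction k with
  | zero => exact fun b _ d _ e => .inl ⟨0, by simpa using e⟩
  | succ k ih =>
    intro b hb d hd e
    rcases ih _ (pow_cl h.aa h.cl' hx hb 2) _ (pow_cl h.aa h.cl' hx hd 2)
      (by rw [xp, ← pow_mul, ← pow_succ']; exact e) with ⟨m, e⟩ | ⟨m, e⟩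
    · rw [xp, xp] at e; exact key b hb d hd m e
    · rw [xp, xp] at e; exact (key d hd b hb m e).symm

theorem dh_odd (h : Fc T z C) (hs : s ∈ T) {j : ℕ} (o : Odd j) : ∃ m : ℕ, s = (s ^ j) ^ m := by
  obtain ⟨k, hk⟩ := h.p2 s hs
  obtain ⟨m, e⟩ := exists_pow_eq_self_of_coprime (x := s) (n := j)
    (Nat.Coprime.coprime_dvd_right (orderOf_dvd_of_pow_eq_one hk)
      (Nat.Coprime.pow_right k (Nat.coprime_two_right.2 o)))
  exact ⟨m, e.symm⟩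

/-- an involution commuting with no member of `C` -/
theorem dh_ev (h : Fc T z C) (hx : x ∈ C) (hd : d ∈ C) (yT : y ∈ T) (yz : y * z = z * y)
    (yy : y * y = 1) (n : ∀ b ∈ C, y * b ≠ b * y) {j : ℕ} (e : x * y * (x * y) = (x * d) ^ j) :
    Odd j := by
  refine Nat.not_even_iff_odd.1 fun ⟨i, hi⟩ => ?_
  have hc := pow_cl h.aa h.cl' hx hd i
  refine n _ hc (dh_rel h hx hc yT yz yy ?_)
  rw [← mul_assoc x x, h.aa x hx, one_mul, e, hi, pow_add]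

theorem dh_gen (h : Fc T z C) (hx : x ∈ C) (hb : b ∈ C) (yT : y ∈ T) (yz : y * z = z * y)
    (yy : y * y = 1) (n : ∀ b ∈ C, y * b ≠ b * y) : ∃ m : ℕ, x * b = (x * y * (x * y)) ^ m := by
  have q : x * (y * x * y⁻¹) = x * y * (x * y) := by rw [inv_sq yy]; group
  have m := T.mul_mem (h.sub x hx) (h.sub b hb)
  obtain ⟨k, hk⟩ := h.p2 _ m
  rcases dh_chain h hx k b hb _ (h.cl y yT yz x hx) hk with ⟨j, e⟩ | ⟨j, e⟩
  · exact ⟨j, q ▸ e⟩
  · rw [q] at e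
    rw [e]
    exact dh_odd h m (dh_ev h hx hb yT yz yy n e)

/-- there are no three pairwise unrelated classes -/
theorem dh_three (h : Fr T z C r) (k : Fc T z D) (l : Fc T z E) (hy : y ∈ D) (hw : w ∈ E)
    (n1 : ∀ b ∈ C, ∀ c ∈ D, c * b ≠ b * c) (n2 : ∀ b ∈ C, w * b ≠ b * w)
    (n3 : ∀ b ∈ D, w * b ≠ b * w) : False := by
  obtain ⟨x, hx⟩ := h.ne
  have xx := h.aa x hx
  have yy := k.aa y hy
  have ww := l.aa w hw
  have ix := inv_sq xx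
  have iy := inv_sq yy
  have iw := inv_sq ww
  have c1 := h.cl y (k.sub y hy) (k.az y hy) x hx
  have c2 := k.cl x (h.sub x hx) (h.az x hx) y hy
  have q1 : x * (y * x * y⁻¹) = x * y * (x * y) := by rw [iy]; group
  have q2 : y * (x * y * x⁻¹) = y * x * (y * x) := by rw [ix]; group
  obtain ⟨i, e1⟩ := dh_gen h.toFc hx (h.cl w (l.sub w hw) (l.az w hw) x hx) (k.sub y hy)
    (k.az y hy) yy fun b hb => n1 b hb y hy
  obtain ⟨i', e1'⟩ := dh_gen h.toFc hx c1 (l.sub w hw) (l.az w hw) ww n2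
  obtain ⟨j, e2⟩ := dh_gen k hy (k.cl w (l.sub w hw) (l.az w hw) y hy) (h.sub x hx)
    (h.az x hx) xx fun b hb => (n1 x hx b hb).symm
  rw [iw, show x * (w * x * w) = x * w * (x * w) by group] at e1
  rw [iw, show y * (w * y * w) = y * w * (y * w) by group] at e2
  obtain ⟨i, rfl⟩ := dh_ev h.toFc hx c1 (l.sub w hw) (l.az w hw) ww n2 (q1 ▸ e1)
  obtain ⟨j, rfl⟩ := dh_ev k hy c2 (l.sub w hw) (l.az w hw) ww n3 (q2 ▸ e2)
  have q3 : y * x * (y * x) = (x * y * (x * y))⁻¹ := by simp only [mul_inv_rev, ix, iy]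
  have j1 : x * (x * y * (x * y)) * x⁻¹ = (x * y * (x * y))⁻¹ := by
    simpa only [sq] using inv_l xx yy 2
  have j2 : y * (x * y * (x * y)) * y⁻¹ = (x * y * (x * y))⁻¹ := by
    simpa only [sq] using inv_r xx yy 2
  have j3 : w * (x * y * (x * y)) * w⁻¹ = (x * y * (x * y))⁻¹ := by
    rw [← q1, e1', ← sq, ← pow_mul]; exact inv_r xx ww _
  have j4 : y * x * y⁻¹ = x * (x * y * (x * y)) := by rw [← q1, ← mul_assoc, xx, one_mul]
  have j5 : w * x * w⁻¹ = x * (x * y * (x * y)) ^ (2 * i + 1) := by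
    rw [← e1, ← mul_assoc, ← mul_assoc, ← mul_assoc, xx, one_mul, iw, mul_assoc]
  have sT : x * y * (x * y) ∈ T := q1 ▸ T.mul_mem (h.sub x hx) (h.sub _ c1)
  rw [q3] at e2
  have s2 : x * y * (x * y) * (x * y * (x * y)) = 1 := by
    generalize x * y * (x * y) = σ at *
    have a1 : y * w * σ * (y * w)⁻¹ = σ := by
      calc y * w * σ * (y * w)⁻¹ = y * (w * σ * w⁻¹) * y⁻¹ := by group
        _ = σ := by rw [j3, ← conj_inv, j2, inv_inv]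
    have a2 : y * w * x * (y * w)⁻¹ = x * σ⁻¹ ^ (2 * i) := by
      calc y * w * x * (y * w)⁻¹ = y * (w * x * w⁻¹) * y⁻¹ := by group
        _ = y * x * y⁻¹ * (y * σ * y⁻¹) ^ (2 * i + 1) := by rw [j5, conj_pow]; group
        _ = _ := by rw [j4, j2]; group
    have a3 : y * w * (y * w) * x * (y * w * (y * w))⁻¹ = x * σ⁻¹ ^ (4 * i) := by
      calc y * w * (y * w) * x * (y * w * (y * w))⁻¹
          = y * w * (y * w * x * (y * w)⁻¹) * (y * w)⁻¹ := by group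
        _ = y * w * x * (y * w)⁻¹ * (y * w * σ * (y * w)⁻¹)⁻¹ ^ (2 * i) := by
          conv_lhs => rw [a2]
          rw [conj_inv, conj_pow]; group
        _ = _ := by rw [a1, a2]; group
    have a4 : σ⁻¹ ^ (2 * j + 1) * x = x * σ ^ (2 * j + 1) := by
      rw [← j1, conj_pow]; group
    rw [e2, a4, mul_assoc, mul_right_inj] at a3
    have a5 : (σ * σ) ^ (2 * (i + j) + 1) = 1 := by
      calc (σ * σ) ^ (2 * (i + j) + 1)
          = σ ^ (2 * j + 1) * (σ⁻¹ ^ (2 * j + 1))⁻¹ * (σ⁻¹ ^ (4 * i))⁻¹ := by rw [← sq]; group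
        _ = 1 := by rw [a3, mul_inv_cancel]
    obtain ⟨m, e⟩ := dh_odd k (T.mul_mem sT sT) (j := 2 * (i + j) + 1) ⟨_, rfl⟩
    rw [e, a5, one_pow]
  rcases h.of_sq hx c1 (q1 ▸ s2) with h1 | h1
  · exact n1 x hx y hy (comm_sq xx yy (q1 ▸ h1)).symm
  · refine n1 _ (h.rc x hx) y hy (dh_rel h.toFc hx (h.rc x hx) (k.sub y hy) (k.az y hy) yy ?_)
    rw [← mul_assoc x x, xx, one_mul, h.rr, ← q1, h1]

theorem dh_cent {Γ : Type*} [Group Γ] [Finite Γ] {A T : Subgroup Γ} {z u u' g : Γ}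
    (d : Odc.Dh T z u u' g) (p : PiGrp {2} T) (n : A ≤ 𝐍 T) (o : PiGrp {2}ᶜ A) :
    ∃ k ∈ T, ∀ a ∈ cj k A, ∀ x ∈ ({z, u} : Set Γ), ∀ y ∈ ({z, u} : Set Γ),
      a * x * a⁻¹ * y = y * (a * x * a⁻¹) := by
  have p2 : ∀ t ∈ T, ∃ k : ℕ, t ^ (2 ^ k) = 1 := fun t ht => by
    obtain ⟨m, hm⟩ := p.isPGroup ⟨t, ht⟩
    exact ⟨m, congrArg Subtype.val hm⟩
  have hu : u ∈ cls (T ⊓ 𝐂₁ z) u := ⟨1, one_mem _, by group⟩
  have h := (fc d p2 p.nil).fr hu ⟨g, ⟨d.gT, mem_cent1.mpr d.gz⟩, d.cj⟩ d.par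
  have hj : ∀ a ∈ 𝐍 T ⊓ 𝐂₁ z, Fc T z ((fun x => a * x * a⁻¹) '' cls (T ⊓ 𝐂₁ z) u) := fun a ha => by
    have := (h.cjn ha.1).toFc
    rwa [cj_iff.2 (mem_cent1.1 ha.2)] at this
  let E : Subgroup Γ :=
    { carrier := {a | a ∈ 𝐍 T ⊓ 𝐂₁ z ∧ a * u * a⁻¹ * u = u * (a * u * a⁻¹)}
      one_mem' := ⟨one_mem _, by group⟩
      mul_mem' := by
        rintro a b ⟨a1, a2⟩ ⟨b1, b2⟩
        refine ⟨mul_mem a1 b1, dh_tr (hj _ (mul_mem a1 b1)) (hj a a1) h.toFc ⟨u, hu, rfl⟩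
          ⟨u, hu, rfl⟩ hu ?_ a2⟩
        calc a * b * u * (a * b)⁻¹ * (a * u * a⁻¹) = a * (b * u * b⁻¹ * u) * a⁻¹ := by group
          _ = _ := by rw [b2]; group
      inv_mem' := by
        rintro a ⟨a1, a2⟩
        refine ⟨inv_mem a1, ?_⟩
        calc a⁻¹ * u * a⁻¹⁻¹ * u = a⁻¹ * (u * (a * u * a⁻¹)) * a := by group
          _ = _ := by rw [← a2]; group }
  have nz : 𝐍 T ⊓ 𝐂₁ z ≤ 𝐍 (T ⊓ 𝐂₁ z) := norm_inf inf_le_left (inf_le_right.trans (le_norm_self _))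
  have l0 : T ⊓ 𝐂₁ z ≤ 𝐍 T ⊓ 𝐂₁ z := inf_le_inf_right _ (le_norm_self T)
  have rel : ∀ a ∈ 𝐍 T ⊓ 𝐂₁ z, ∀ b ∈ 𝐍 T ⊓ 𝐂₁ z, a⁻¹ * b ∉ T ⊓ 𝐂₁ z ⊔ E →
      ∀ x ∈ (fun x => a * x * a⁻¹) '' cls (T ⊓ 𝐂₁ z) u,
      ∀ y ∈ (fun x => b * x * b⁻¹) '' cls (T ⊓ 𝐂₁ z) u, y * x ≠ x * y := by
    rintro a ha b hb m _ ⟨_, ⟨s, hs, rfl⟩, rfl⟩ _ ⟨_, ⟨t, ht, rfl⟩, rfl⟩ e
    have : s⁻¹ * (a⁻¹ * b) * t ∈ E := by
      refine ⟨mul_mem (mul_mem (inv_mem (l0 hs)) (mul_mem (inv_mem ha) hb)) (l0 ht), ?_⟩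
      calc s⁻¹ * (a⁻¹ * b) * t * u * (s⁻¹ * (a⁻¹ * b) * t)⁻¹ * u = (a * s)⁻¹ *
          (b * (t * u * t⁻¹) * b⁻¹ * (a * (s * u * s⁻¹) * a⁻¹)) * (a * s) := by group
        _ = _ := by rw [e]; group
    have := mul_mem (mul_mem (mem_sup_left hs : s ∈ T ⊓ 𝐂₁ z ⊔ E) (mem_sup_right this))
      (mem_sup_left (inv_mem ht))
    exact m (by simpa only [mul_assoc, mul_inv_cancel_left, mul_inv_cancel, mul_one] using this)
  have lA : A ⊓ 𝐂₁ z ≤ 𝐍 T ⊓ 𝐂₁ z := inf_le_inf_right _ n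
  have l1 : A ⊓ 𝐂₁ z ≤ T ⊓ 𝐂₁ z ⊔ E := fun a ha => by
    by_contra m
    have m2 : a * a ∉ T ⊓ 𝐂₁ z ⊔ E := fun e => m <| by
      obtain ⟨j, e'⟩ := exists_pow_eq_self_of_coprime (x := a) (n := 2)
        ((Nat.Prime.coprime_iff_not_dvd Nat.prime_two).2 fun w => o.elt ha.1 2 Nat.prime_two w rfl)
      rw [← e', sq]; exact pow_mem e j
    have a1 := lA ha
    have a2 := mul_mem a1 a1
    have r1 := rel 1 (one_mem _) a a1 (by simpa using m)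
    have r2 := rel 1 (one_mem _) _ a2 (by simpa using m2)
    have r3 := rel a a1 _ a2 (by simpa using m)
    simp only [one_mul, inv_one, mul_one, Set.image_id'] at r1 r2
    exact dh_three h (hj a a1) (hj _ a2) ⟨u, hu, rfl⟩ ⟨u, hu, rfl⟩ r1
      (fun b hb => r2 b hb _ ⟨u, hu, rfl⟩) fun b hb => r3 b hb _ ⟨u, hu, rfl⟩
  obtain ⟨k, hk, l⟩ := exists_cj_le_of_le_sup (A := E) (B := A ⊓ 𝐂₁ z) (K := T ⊓ 𝐂₁ z)
    (fun a ha => nz ha.1) l1 ((o.le inf_le_left).coprime' (p.le inf_le_left))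
    (.inr (p.le inf_le_left).sol)
  refine ⟨k, hk.1, fun a ha => ?_⟩
  have aN : a ∈ 𝐍 T := by
    obtain ⟨b, hb, rfl⟩ := mem_cj_iff.1 ha
    exact mul_mem (mul_mem (le_norm_self T hk.1) (n hb)) (inv_mem (le_norm_self T hk.1))
  have k2 := h.cjn aN
  have zw := all_comm h k2
  have ha' : a * u * a⁻¹ ∈ (fun x => a * x * a⁻¹) '' cls (T ⊓ 𝐂₁ z) u := ⟨u, hu, rfl⟩
  by_cases e : z = a * z * a⁻¹
  · have az := mem_cent1.2 (cj_iff.1 e.symm)
    have kz : k ∈ 𝐂₁ z := hk.2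
    have := (l (mem_cj.2 (mem_inf.2 ⟨mem_cj.1 ha, mul_mem (mul_mem (inv_mem kz) az) kz⟩))).2
    rintro x (rfl | rfl) y (rfl | rfl)
    exacts [zw.symm, e ▸ d.zu, (hj a ⟨aN, az⟩).az _ ha', this]
  · rintro x (rfl | rfl) y (rfl | rfl)
    exacts [zw.symm, (cent_w h k2 e zw hu).symm, cent_w k2 h (Ne.symm e) zw.symm ha',
      (cls_comm h k2 e zw hu ha').symm]

end CF.Ncp
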