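import Cfsg.Agent.Ncp.N4

/-! The block over the Baumann subgroup is defined over the field of order two -/

set_option autoImplicit false

namespace CF.Ncp
open Cfsg Subgroup CF.Loc CF.FF CF.Odc
open CF.PLocal (maxAb thompson_le le_thompson upT upU)
open scoped commutatorElement MatrixGroups

universe u
variable {Γ : Type u} [Group Γ] [Finite Γ] {G A T S L Q : Subgroup Γ} {F : Type} [Field F]
  {ρ : Γ → SL(2, F)} {ψ : Γ → Fin 2 → F}

local notation "𝐌" => MM G T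
local notation "𝐖" => WW G T
local notation "𝐙" => Cfsg.omegaOneCenter 2 T
local notation "𝐁₀" => Cfsg.baumannSubgroupOf 2 S

namespace SN
variable (h : SN G A T S L Q F ρ ψ)
include h

theorem TW : T ≤ 𝐍(𝐖) := h.TM.trans (M_norm G T)

variable [Finite F]

theorem W_le_S : 𝐖 ≤ S := by_contra fun c => by
  have WT := W_le G T
  have nS : S ≤ 𝐍(𝐖 ⊓ 𝐍(S)) := le_normalizer_inf (h.le.trans h.TW)
    (le_normalizer.trans le_normalizer)
  have lt : S < S ⊔ (𝐖 ⊓ 𝐍(S)) := by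
    obtain ⟨y, hy, y0⟩ := SetLike.exists_of_lt (lt_inf_normalizer (h.pT.to_le (sup_le h.le WT))
      (left_lt_sup.2 c))
    obtain ⟨s, hs, w, hw, rfl⟩ := (mem_sup_of_le_normalizer' (h.le.trans h.TW)).1 hy.1
    exact left_lt_sup.2 fun e => y0 (mul_mem hs (e ⟨hw, (mul_mem_cancel_left (le_normalizer hs)).1 hy.2⟩))
  have nB : S ⊔ (𝐖 ⊓ 𝐍(S)) ≤ 𝐍(𝐁₀) := (sup_le le_normalizer inf_le_right).trans (norm_baumann 2 S)
  have NT : S ⊔ (𝐖 ⊓ 𝐍(S)) ≤ T := sup_le h.le (inf_le_left.trans WT)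
  obtain ⟨n, hn, k⟩ := h.partner (h.nb_of_lt ((baumann_le 2 S).trans le_sup_left) nB NT
    (card_lt_card_of_lt lt))
  have h' := h.nd.cj (nB hn)
  have e : 𝐁₀ ≤ (𝐖 ⊓ 𝐁₀) ⊔ Q := by
    refine (h.nd.sup_eq h' k).ge.trans (sup_le ?_ le_sup_right)
    obtain ⟨a, ha, s, hs, rfl⟩ := (mem_sup_of_le_normalizer nS).1 (sup_comm S _ ▸ hn)
    have l : cj[s] (UU L Q) ≤ Q := h.nd.le_Q (cj_le_of_mem_normalizer (norm_baumann 2 S
      (le_normalizer hs)) h.nd.UB) (h.com s hs)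
    rw [← cj_UU, cj_mul]
    rintro _ ⟨u, hu, rfl⟩
    have uB := h.nd.le (l hu)
    change a * u * a⁻¹ ∈ _
    rw [show a * u * a⁻¹ = a * (u * a⁻¹ * u⁻¹) * u by group]
    refine mul_mem (mem_sup_left (mem_inf.2 ⟨mul_mem ha.1 (conj_mem_of_mem_normalizer (h.TW (h.BT uB))
      (inv_mem ha.1)), ?_⟩)) (mem_sup_right (l hu))
    rw [show a * (u * a⁻¹ * u⁻¹) = a * u * a⁻¹ * u⁻¹ by group]
    exact mul_mem (conj_mem_of_mem_normalizer (norm_baumann 2 S ha.2) uB) (inv_mem uB)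
  have e' := cj_mono n e
  rw [cj_sup, cj_eq_self (nB hn), cj_eq_self (le_normalizer_inf (NT.trans h.TW) nB hn)] at e'
  rcases h.nd.ea_le h' k inf_le_right (isElemAb_of_le (W_ea G T) inf_le_left) with l | l
  · exact h.nd.ne (e.trans (sup_le l le_rfl))
  · exact h'.ne (e'.trans (sup_le l le_rfl))

theorem W_le_Om : 𝐖 ≤ 𝛀[2](𝐉[2](S)) := by
  refine le_omegaJ (W_ea G T) h.W_le_S (le_centralizer_comm.1 (PLocal.thompson_le_iff.2 fun E hE => ?_))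
  refine h.nf E (hE.1.trans h.le) (.of_isEA Nat.prime_two hE.2.1) ?_
  have := maxAb_off hE h.W_le_S (W_ea G T)
  rw [← BG.card_inf_mul_relIndex 𝐂(E) 𝐖, ← BG.card_inf_mul_relIndex 𝐂(𝐖) E, inf_comm E, inf_comm 𝐖,
    mul_assoc, mul_comm (Subgroup.relIndex _ E)] at this
  exact Nat.le_of_mul_le_mul_left (Nat.le_of_mul_le_mul_left this Nat.card_pos) Nat.card_pos

theorem WC : 𝐖 ≤ 𝐂(𝐁₀) := le_centralizer_comm.1 (inf_le_right.trans (centralizer_anti h.W_le_Om))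

theorem WB : 𝐖 ≤ 𝐁₀ := h.W_le_Om.trans ((omegaOneCenter_le 2 _).trans (thompson_le_baumann 2 S))

theorem WV : 𝐖 ≤ 𝛀[2](Q) := le_omegaOneCenter (W_ea G T)
  (h.nd.le_Q h.WB (h.WC.trans (centralizer_anti h.nd.UB))) (h.WC.trans (centralizer_anti h.nd.le))

theorem normB_le : G ⊓ 𝐍(𝐁₀) ≤ 𝐌 := fun g hg => by
  obtain ⟨m, hm, c⟩ := gd_of_not_bad h.not_bad_B hg.1 hg.2
  exact ⟨hg.1, (mul_mem_cancel_left (inv_mem (M_norm G T hm))).1
    (centralizer_le_normalizer_of_le h.WB c)⟩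

end SN

end CF.Ncp
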